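import Mathlib
import Cfsg.Agent.ONType.PslCard
import Cfsg.Agent.OddHalf.D9.L34Mult.Mult
import Cfsg.Agent.SporadicStructure.FieldNine
import Cfsg.Agent.H60.CrossA
import Cfsg.Agent.H60.EvenA
import Cfsg.Agent.H60.CoverMult
import Cfsg.Agent.H51.Mult
import Cfsg.Agent.H47.Fibre
import Cfsg.Agent.H487.SchurPerfect
set_option linter.all false

-- part: H60/LThreeFour/Data
section
/-!
# A central extension of `PSL(3,4)` with kernel of order divisible by four (helper60)

`M` is the group of the pairs `(a, g)`, `a ∈ GL(4,9)`, `g ∈ SL(3,4)`, such that `a` permutes the 120 lines `⟨vv i⟩` of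
`F₉⁴` in the same way as `g` permutes the 120 Baer subplanes `mask i` of the projective plane over `F₄`.
-/

set_option autoImplicit false

namespace Cfsg.Agent.H60.LThreeFour

open Matrix
open Cfsg.Agent.SporadicA.FieldFour
open Cfsg.Agent.ONType.Psl
open Cfsg.Agent.SporadicStructure.FieldNine (K9)

/-- the `k`-th block of `b` bits -/
def dig (N b k : ℕ) : ℕ := (N >>> (b * k)) % 2 ^ b

def VD : ℕ := 0x404140218661836146614361802180410710051010000061011102511710271057015531788174715881547177017531640168312251721036101251211152106610111108213831063103013401044115102510015102117871748157315501750177315481587112111151343108410601680138016431033104217110331022115110631021518061406100100100830186314421216148213861484134612261444110516031833110118601600184418821433120114301300146012051303146311161884168616461126184214571478104615010003111000001210008617010858187718571458147718781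
def MD : ℕ := 0x1d03081c88301c50821c24441b10501a84881a42241a2902198007186019181521180ac117042216910416484816229015380114c6011401531400ad13418112a06112120b120c1511d02811a51011624211168411096411089a10e884109c421083a210825c105b1010450e1044f01031c8103036102e280f08840e82420e45100e30280d40610ca1810c12150c0c0b0b26010ad8010a014d0a00b309c29009a848097104091a220905c209043c08e42208911a0890e4088f040856480849a8084856083c9008237008228e0780190660070614c1060b2105c90205a2240564880511b005104e050e5004f050049a88048568048496045c240443c404423a04370204291c0428e203c44403b082036830031d080303160302e802e3080296300289d002882e02516202509c024e82023a440225a402245a019341018ca1015413014a0d01212b0120d500c13500c0cb00b40d00aa130072a1006d41001987001879000799000667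
def AD : ℕ := 0x2416281600108055002301000020603000620030060022000062006003002100
def GD : ℕ := 0x1100010100010201100010021100010011
def SD : ℕ := 0x4246763a4f366c38407048370e2859172f5816065a032013671c5b2a0c1d55250212695060213004433b724a6f3c4e3d3f7534447341774b3e476d4c4939746e714d45351e5726085f0f5e332e1f6a2907186656622719095c2c632d1a0a523114056468532401112b0d6b5d0b1b615122156554233210000c253759141f71325441092416604f12213a035b45111b6a3e073456642b7426005c496f3b0a512e6913461d3804552f194d6315392d6e23085f3d0d5366434b7529055d1c701730485042025a28362a0e58766c4006672072104c33611a4718316b44734e68621e01273c770b526d3f5e22354a652c0f57213e14563726511b6049090a16542b340c0745640300326f253a12595b4f5c1f1174416a3b24712e5a103c2302016e33060d6544362a551d1776184d535e292c734335684861080b1c5028386942392d27725f524c19771a5813402f7020223d3f6b15751e5d574e040e4667306c6d316647050f634b4a622f5f431f29593d19664609082e5e421e336f0f0e4a620607766a4e262728725657583c3a3b1718162d5d411d4b630d0c326e040575694d2324257155535437383914151367470a0b776b4f2c2a2b735a5b5c3e3f401b1c1a74684c212220705152503536341011126564494830316d6c6061444501020300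
def RD : ℕ := 0xb130f07100c1408120e0a0603040200110d090501020e0b11030a130d04120f09000607050c10140108020403010b0a0c090e100f0d0807060513121411000f0e100d1214131104030201080706050c0b0a0900
def CD : ℕ := 0x633366645586781643573132735314247328156316877534323134835763123124753658273134641643732746428385845422565764185463188751843388273361382643352887212245675266231526835334872825656211262467523831544442824851425272667172667733722517263312466524887125445721214385612374272323686141365868216185473231543712684326164832174651552423127378515621621872373187212645262316881752447522126858163247726431261385631443121658742313186257343268624861715245416523721387212651653727181347132285626132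
def PD : ℕ := 0x331231131031321221121021311211111011301201101001310210110010100

/-- the 120 vectors -/
def vv (i : Fin 120) (k : Fin 4) : K9 := K9.mk (dig VD 4 (4 * i.val + k.val))
/-- the 120 Baer subplanes -/
def mask (i : Fin 120) : ℕ := dig MD 24 i.val
/-- the 21 points -/
def pp (i : Fin 21) (k : Fin 3) : F4 := F4.ofNat (dig PD 4 (3 * i.val + k.val))
/-- the generators in dimension 4 -/
def am (g : Fin 4) : Matrix (Fin 4) (Fin 4) K9 := fun i j => K9.mk (dig AD 4 (16 * g.val + (4 * i.val + j.val)))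
/-- the generators in dimension 3 -/
def gm (g : Fin 4) : Matrix (Fin 3) (Fin 3) F4 := fun i j => F4.ofNat (dig GD 4 (9 * g.val + (3 * i.val + j.val)))
/-- the action on the lines -/
def sig (g : Fin 4) (i : Fin 120) : Fin 120 := ⟨dig SD 8 (120 * g.val + i.val) % 120, Nat.mod_lt _ (by decide)⟩
/-- the action on the points -/
def rho (g : Fin 4) (i : Fin 21) : Fin 21 := ⟨dig RD 8 (21 * g.val + i.val) % 21, Nat.mod_lt _ (by decide)⟩
/-- the factors -/
def coef (g : Fin 4) (i : Fin 120) : K9 := K9.mk (dig CD 4 (120 * g.val + i.val))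

theorem chk_vv : ∀ g : Fin 4, ∀ i : Fin 120, ∀ r : Fin 4,
    am g r 0 * vv i 0 + am g r 1 * vv i 1 + am g r 2 * vv i 2 + am g r 3 * vv i 3 = coef g i * vv (sig g i) r := by
  decide +kernel

theorem chk_coef : ∀ g : Fin 4, ∀ i : Fin 120, coef g i ≠ 0 := by decide +kernel

theorem chk_sig : ∀ g : Fin 4, ∀ i : Fin 120, sig g (sig g (sig g (sig g (sig g (sig g i))))) = i := by decide +kernel

theorem chk_rho : ∀ g : Fin 4, ∀ i : Fin 21, rho g (rho g (rho g (rho g (rho g (rho g i))))) = i := by decide +kernel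

theorem chk_mask : ∀ g : Fin 4, ∀ i : Fin 120, ∀ k : Fin 21,
    Nat.testBit (mask i) k.val = Nat.testBit (mask (sig g i)) (rho g k).val := by decide +kernel

theorem chk_pp : ∀ g : Fin 4, ∀ k : Fin 21, ∃ c : F4, c ≠ 0 ∧ ∀ r : Fin 3,
    gm g r 0 * pp k 0 + gm g r 1 * pp k 1 + gm g r 2 * pp k 2 = c * pp (rho g k) r := by decide +kernel

theorem chk_pp_inj : ∀ k l : Fin 21, ∀ c : F4, (∀ r : Fin 3, pp k r = c * pp l r) → k = l := by decide +kernel

theorem chk_mask_inj : ∀ i j : Fin 120, mask i = mask j → i = j := by decide +kernel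

theorem chk_mask_lt : ∀ i : Fin 120, mask i < 2 ^ 21 := by decide +kernel

theorem chk_am : ∀ g : Fin 4, am g * (am g * (am g * (am g * (am g * am g)))) = 1 := by decide +kernel

theorem chk_frame : vv 9 = ![1, 0, 0, 0] ∧ vv 49 = ![0, 1, 0, 0] ∧ vv 48 = ![0, 0, 1, 0] ∧
    vv 109 = ![0, 0, 0, 1] ∧ vv 86 = ![1, 1, 1, 1] := by decide +kernel

theorem chk_det : ∀ g : Fin 4, gm g 0 0 * gm g 1 1 * gm g 2 2 - gm g 0 0 * gm g 1 2 * gm g 2 1
    - gm g 0 1 * gm g 1 0 * gm g 2 2 + gm g 0 1 * gm g 1 2 * gm g 2 0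
    + gm g 0 2 * gm g 1 0 * gm g 2 1 - gm g 0 2 * gm g 1 1 * gm g 2 0 = 1 := by decide +kernel

theorem chk_noncomm : am 0 * am 2 ≠ am 2 * am 0 := by decide +kernel

theorem chk_gm : gm 0 = tm 0 1 1 ∧ gm 1 = tm 0 1 ω ∧ gm 2 = tm 0 2 ω := by decide +kernel

end Cfsg.Agent.H60.LThreeFour
end

-- part: H60/LThreeFour/Ext
section
/-!
# A central extension of `PSL(3,4)` in which the lifts of two commuting root elements do not commute (helper60)
-/

set_option autoImplicit false

namespace Cfsg.Agent.H60.LThreeFour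

open Matrix
open Cfsg.Agent.SporadicA.FieldFour
open Cfsg.Agent.ONType.Psl
open Cfsg.Agent.SporadicStructure.FieldNine (K9)
open Cfsg.Agent.OddHalf.D9.L34Mult (CE)

section lines

variable {K : Type*} [CommRing K] {n : Type*} [Fintype n] {ι : Type*}

/-- `a` permutes the lines `⟨v i⟩` by `σ` -/
def Lines (a : Matrix n n K) (v : ι → n → K) (σ : Equiv.Perm ι) : Prop := ∀ i, ∃ c : Kˣ, a *ᵥ v i = (c : K) • v (σ i)

theorem Lines.one [DecidableEq n] (v : ι → n → K) : Lines (1 : Matrix n n K) v 1 := fun i => ⟨1, by simp⟩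

theorem Lines.mul {a b : Matrix n n K} {v : ι → n → K} {σ τ : Equiv.Perm ι} (ha : Lines a v σ) (hb : Lines b v τ) :
    Lines (a * b) v (σ * τ) := by
  intro i
  obtain ⟨c, hc⟩ := hb i
  obtain ⟨d, hd⟩ := ha (τ i)
  refine ⟨c * d, ?_⟩
  rw [← Matrix.mulVec_mulVec, hc, Matrix.mulVec_smul, hd, smul_smul, Units.val_mul, Equiv.Perm.mul_apply]

theorem Lines.inv [DecidableEq n] {a a' : Matrix n n K} (h : a' * a = 1) {v : ι → n → K} {σ : Equiv.Perm ι}
    (ha : Lines a v σ) : Lines a' v σ⁻¹ := by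
  intro i
  obtain ⟨c, hc⟩ := ha (σ⁻¹ i)
  refine ⟨c⁻¹, ?_⟩
  rw [show σ (σ⁻¹ i) = i from σ.apply_symm_apply i] at hc
  have h1 := congrArg (a' *ᵥ ·) hc
  simp only [Matrix.mulVec_mulVec, h, Matrix.one_mulVec, Matrix.mulVec_smul] at h1
  rw [h1, smul_smul, Units.inv_mul, one_smul]

end lines

/-- the ambient group -/
abbrev Amb : Type := (Matrix (Fin 4) (Fin 4) K9)ˣ × SL3

/-- the correspondence of the actions -/
def Good (x : Amb) : Prop :=
  ∃ (σ : Equiv.Perm (Fin 120)) (ρ : Equiv.Perm (Fin 21)), Lines x.1.1 vv σ ∧ Lines x.2.1 pp ρ ∧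
    ∀ i k, Nat.testBit (mask i) (k : Fin 21).val = Nat.testBit (mask (σ i)) (ρ k).val

/-- the group -/
def MM : Subgroup Amb where
  carrier := {x | Good x}
  one_mem' := ⟨1, 1, Lines.one _, Lines.one _, fun _ _ => rfl⟩
  mul_mem' := by
    rintro a b ⟨σ, ρ, h1, h2, h3⟩ ⟨σ', ρ', h1', h2', h3'⟩
    refine ⟨σ * σ', ρ * ρ', h1.mul h1', h2.mul h2', fun i k => ?_⟩
    rw [h3' i k, h3]
    rfl
  inv_mem' := by
    rintro a ⟨σ, ρ, h1, h2, h3⟩
    refine ⟨σ⁻¹, ρ⁻¹, ?_, ?_, fun i k => ?_⟩
    · exact h1.inv (a' := (a⁻¹).1.1) (Units.inv_mul a.1)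
    · exact h2.inv (a' := (a⁻¹).2.1) (congrArg Subtype.val (inv_mul_cancel a.2))
    · have := h3 (σ⁻¹ i) (ρ⁻¹ k)
      rw [show σ (σ⁻¹ i) = i from σ.apply_symm_apply i, show ρ (ρ⁻¹ k) = k from ρ.apply_symm_apply k] at this
      exact this.symm

theorem mem_MM {x : Amb} : x ∈ MM ↔ Good x := Iff.rfl

/-- the projection -/
def piM : MM →* PSL3 := (QuotientGroup.mk' (Subgroup.center SL3)).comp ((MonoidHom.snd _ _).comp MM.subtype)

theorem piM_mk (x : MM) : piM x = QuotientGroup.mk x.1.2 := rfl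

/-! ### the kernel is central -/

theorem pp_inj {k l : Fin 21} {c : F4} (h : pp k = c • pp l) : k = l :=
  chk_pp_inj k l c (fun r => congrFun h r)

theorem scalar_of_fix {a : Matrix (Fin 4) (Fin 4) K9} (h : ∀ i : Fin 120, ∃ c : K9, a *ᵥ vv i = c • vv i) :
    ∃ c : K9, a = Matrix.scalar (Fin 4) c := by
  obtain ⟨e0, e1, e2, e3, e4⟩ := chk_frame
  obtain ⟨c0, h0⟩ := h 9
  obtain ⟨c1, h1⟩ := h 49
  obtain ⟨c2, h2⟩ := h 48
  obtain ⟨c3, h3⟩ := h 109
  obtain ⟨c4, h4⟩ := h 86
  rw [e0] at h0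
  rw [e1] at h1
  rw [e2] at h2
  rw [e3] at h3
  rw [e4] at h4
  have g0 := fun i => congrFun h0 i
  have g1 := fun i => congrFun h1 i
  have g2 := fun i => congrFun h2 i
  have g3 := fun i => congrFun h3 i
  have g4 := fun i => congrFun h4 i
  simp only [Matrix.mulVec, dotProduct, Fin.sum_univ_four, Pi.smul_apply, smul_eq_mul] at g0 g1 g2 g3 g4
  simp only [Matrix.cons_val_zero, Matrix.cons_val_one, Matrix.cons_val, mul_zero, mul_one, add_zero, zero_add]
    at g0 g1 g2 g3 g4
  refine ⟨c4, ?_⟩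
  ext i j
  rw [Matrix.scalar_apply, Matrix.diagonal_apply]
  have G0 := g4 0
  have G1 := g4 1
  have G2 := g4 2
  have G3 := g4 3
  have A00 := g0 0; have A10 := g0 1; have A20 := g0 2; have A30 := g0 3
  have A01 := g1 0; have A11 := g1 1; have A21 := g1 2; have A31 := g1 3
  have A02 := g2 0; have A12 := g2 1; have A22 := g2 2; have A32 := g2 3
  have A03 := g3 0; have A13 := g3 1; have A23 := g3 2; have A33 := g3 3
  simp only [Matrix.cons_val_zero, Matrix.cons_val_one, Matrix.cons_val, mul_zero, mul_one]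
    at G0 G1 G2 G3 A00 A10 A20 A30 A01 A11 A21 A31 A02 A12 A22 A32 A03 A13 A23 A33
  fin_cases i <;> fin_cases j <;> simp_all

theorem mask_inj {i j : Fin 120} (h : ∀ k : Fin 21, Nat.testBit (mask i) k.val = Nat.testBit (mask j) k.val) :
    i = j := by
  apply chk_mask_inj
  apply Nat.eq_of_testBit_eq
  intro k
  by_cases hk : k < 21
  · exact h ⟨k, hk⟩
  · have h2 : 2 ^ 21 ≤ 2 ^ k := Nat.pow_le_pow_right (by norm_num) (by omega)
    rw [Nat.testBit_lt_two_pow ((chk_mask_lt i).trans_le h2), Nat.testBit_lt_two_pow ((chk_mask_lt j).trans_le h2)]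

/-- an element over the centre is a pair of scalars -/
theorem scalar_of_ker {x : MM} (hx : piM x = 1) :
    (∃ c : K9, x.1.1.1 = Matrix.scalar (Fin 4) c) ∧ x.1.2 ∈ Subgroup.center SL3 := by
  rw [piM_mk, QuotientGroup.eq_one_iff] at hx
  refine ⟨?_, hx⟩
  obtain ⟨σ, ρ, h1, h2, h3⟩ := x.2
  obtain ⟨r, hr, hr'⟩ := Matrix.SpecialLinearGroup.mem_center_iff.1 hx
  have hρ : ∀ k, ρ k = k := by
    intro k
    obtain ⟨c, hc⟩ := h2 k
    rw [← hr', Matrix.scalar_apply, ← Matrix.smul_one_eq_diagonal, Matrix.smul_mulVec, Matrix.one_mulVec] at hc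
    refine pp_inj (c := (c : F4)⁻¹ * r) ?_
    rw [mul_smul, hc, smul_smul, inv_mul_cancel₀ c.ne_zero, one_smul]
  have hσ : ∀ i, σ i = i := by
    intro i
    apply mask_inj
    intro k
    have := h3 i k
    rw [hρ] at this
    exact this.symm
  apply scalar_of_fix
  intro i
  obtain ⟨c, hc⟩ := h1 i
  rw [hσ] at hc
  exact ⟨c, hc⟩

theorem piM_cen (k : MM) (hk : piM k = 1) (m : MM) : k * m = m * k := by
  obtain ⟨⟨c, hc⟩, h2⟩ := scalar_of_ker hk
  apply Subtype.ext
  apply Prod.ext
  · apply Units.ext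
    show k.1.1.1 * m.1.1.1 = m.1.1.1 * k.1.1.1
    rw [hc]
    exact (Matrix.scalar_commute c (fun r' => mul_comm _ _) _).eq
  · exact (Subgroup.mem_center_iff.1 h2 m.1.2).symm

/-! ### the generators -/

theorem gm_det (g : Fin 4) : (gm g).det = 1 := by
  rw [Matrix.det_fin_three]; exact chk_det g

/-- the generators of `SL(3,4)` -/
def gs (g : Fin 4) : SL3 := ⟨gm g, gm_det g⟩

/-- the generators of the 4-dimensional group -/
def au (g : Fin 4) : (Matrix (Fin 4) (Fin 4) K9)ˣ where
  val := am g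
  inv := am g * (am g * (am g * (am g * am g)))
  val_inv := chk_am g
  inv_val := by
    have := chk_am g
    simp only [← mul_assoc] at this ⊢
    exact this

/-- the permutation of the lines -/
def sigP (g : Fin 4) : Equiv.Perm (Fin 120) where
  toFun := sig g
  invFun i := sig g (sig g (sig g (sig g (sig g i))))
  left_inv i := chk_sig g i
  right_inv i := chk_sig g i

/-- the permutation of the points -/
def rhoP (g : Fin 4) : Equiv.Perm (Fin 21) where
  toFun := rho g
  invFun i := rho g (rho g (rho g (rho g (rho g i))))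
  left_inv i := chk_rho g i
  right_inv i := chk_rho g i

theorem gen_mem (g : Fin 4) : (au g, gs g) ∈ MM := by
  refine ⟨sigP g, rhoP g, ?_, ?_, fun i k => chk_mask g i k⟩
  · intro i
    refine ⟨Units.mk0 (coef g i) (chk_coef g i), ?_⟩
    ext r
    have := chk_vv g i r
    simp only [Matrix.mulVec, dotProduct, Fin.sum_univ_four, Pi.smul_apply, smul_eq_mul, Units.val_mk0]
    exact this
  · intro k
    obtain ⟨c, hc, h⟩ := chk_pp g k
    refine ⟨Units.mk0 c hc, ?_⟩
    ext r
    simp only [Matrix.mulVec, dotProduct, Fin.sum_univ_three, Pi.smul_apply, smul_eq_mul, Units.val_mk0]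
    exact h r

/-- the generators of `MM` -/
def G (g : Fin 4) : MM := ⟨(au g, gs g), gen_mem g⟩

theorem gs_zero : gs 0 = T 0 1 1 := Subtype.ext chk_gm.1
theorem gs_one : gs 1 = T 0 1 ω := Subtype.ext chk_gm.2.1
theorem gs_two : gs 2 = T 0 2 ω := Subtype.ext chk_gm.2.2

theorem piM_zero : piM (G 0) = t 0 1 1 := congrArg (QuotientGroup.mk : SL3 → PSL3) gs_zero
theorem piM_one : piM (G 1) = t 0 1 ω := congrArg (QuotientGroup.mk : SL3 → PSL3) gs_one
theorem piM_two : piM (G 2) = t 0 2 ω := congrArg (QuotientGroup.mk : SL3 → PSL3) gs_two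

theorem chk_conj : ∀ u : F4, (gm 3 * tm 0 1 u = tm 2 0 u * gm 3) ∧ (gm 3 * tm 2 0 u = tm 1 2 u * gm 3) := by
  decide +kernel

theorem T_conj (u : F4) : gs 3 * T 0 1 u = T 2 0 u * gs 3 := Subtype.ext (chk_conj u).1
theorem T_conj' (u : F4) : gs 3 * T 2 0 u = T 1 2 u * gs 3 := Subtype.ext (chk_conj u).2

/-- the class of the permutation matrix -/
def nu : PSL3 := (QuotientGroup.mk (gs 3) : PSL3)

theorem t_conj (u : F4) : nu * t 0 1 u = t 2 0 u * nu := congrArg (QuotientGroup.mk : SL3 → PSL3) (T_conj u)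
theorem t_conj' (u : F4) : nu * t 2 0 u = t 1 2 u * nu := congrArg (QuotientGroup.mk : SL3 → PSL3) (T_conj' u)

theorem piM_surj : Function.Surjective piM := by
  rw [← MonoidHom.range_eq_top, eq_top_iff, ← Cfsg.Agent.ONType.PslCard.closure_t, Subgroup.closure_le]
  have hnu : nu ∈ piM.range := ⟨G 3, rfl⟩
  have h01 : ∀ u, t 0 1 u ∈ piM.range := by
    have h1 : t 0 1 1 ∈ piM.range := ⟨G 0, piM_zero⟩
    have h2 : t 0 1 ω ∈ piM.range := ⟨G 1, piM_one⟩
    intro u
    cases u
    · exact (t_zero 0 1).symm ▸ one_mem _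
    · exact h1
    · exact h2
    · have := t_add 0 1 1 ω (by decide)
      exact this ▸ mul_mem h1 h2
  have h20 : ∀ u, t 2 0 u ∈ piM.range := by
    intro u
    have : t 2 0 u = nu * t 0 1 u * nu⁻¹ := by rw [t_conj, mul_inv_cancel_right]
    rw [this]
    exact mul_mem (mul_mem hnu (h01 u)) (inv_mem hnu)
  have h12 : ∀ u, t 1 2 u ∈ piM.range := by
    intro u
    have : t 1 2 u = nu * t 2 0 u * nu⁻¹ := by rw [t_conj', mul_inv_cancel_right]
    rw [this]
    exact mul_mem (mul_mem hnu (h20 u)) (inv_mem hnu)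
  have key : ∀ i j k : Fin 3, i ≠ j → i ≠ k → j ≠ k → (∀ u, t i k u ∈ piM.range) → (∀ u, t k j u ∈ piM.range) →
      ∀ u, t i j u ∈ piM.range := by
    intro i j k h1 h2 h3 ha hb u
    have h := t_sum i j k u 1 h1 h2 h3
    rw [mul_one] at h
    have e : t i j u = (t k j 1 * t i k u)⁻¹ * (t i k u * t k j 1) := by rw [h]; group
    rw [e]
    exact mul_mem (inv_mem (mul_mem (hb 1) (ha u))) (mul_mem (ha u) (hb 1))
  rintro y ⟨i, j, hij, u, rfl⟩
  have h02 := key 0 2 1 (by decide) (by decide) (by decide) h01 h12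
  have h10 := key 1 0 2 (by decide) (by decide) (by decide) h12 h20
  have h21 := key 2 1 0 (by decide) (by decide) (by decide) h20 h01
  fin_cases i <;> fin_cases j
  · exact absurd rfl hij
  · exact h01 u
  · exact h02 u
  · exact h10 u
  · exact absurd rfl hij
  · exact h12 u
  · exact h20 u
  · exact h21 u
  · exact absurd rfl hij

/-- **The central extension.** -/
theorem ce : CE piM := ⟨piM_surj, piM_cen⟩

theorem noncomm : G 0 * G 2 ≠ G 2 * G 0 := by
  intro h
  apply chk_noncomm
  exact congrArg (fun x : MM => x.1.1.1) h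

end Cfsg.Agent.H60.LThreeFour
end

-- part: H60/LThreeFour/Odd
section
/-!
# The odd part of the multiplier of `PSL(3,4)` (helper60)

`card_ker_le`: the kernel of a finite perfect central extension of `PSL(3,4)` has at most three elements if its exponent
is odd.
-/

set_option autoImplicit false

namespace Cfsg.Agent.H60.LThreeFour

open Subgroup Function
open Cfsg.Agent.SporadicA.FieldFour
open Cfsg.Agent.ONType.Psl
open Cfsg.Agent.H51.Mult Cfsg.Agent.H47.Fibre

theorem charP_two : CharP F4 2 := CharTwo.of_one_ne_zero_of_two_eq_zero one_ne_zero (by decide)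

theorem perfect_SL3 : commutator SL3 = ⊤ := by
  refine LieClassical.SLGen.commutator_eq_top ?_
  rw [Fintype.card_fin]

/-- the projection `SL(3,4) → PSL(3,4)` -/
def prS : SL3 →* PSL3 := QuotientGroup.mk' (center SL3)

theorem prS_surj : Surjective prS := QuotientGroup.mk'_surjective _

theorem prS_ker : prS.ker = center SL3 := QuotientGroup.ker_mk' _

theorem perfect_PSL3 : commutator PSL3 = ⊤ := KFacts.MulDef.commutator_top_of_surj prS prS_surj perfect_SL3

theorem isPerfect_PSL3 : Group.IsPerfect PSL3 := ⟨perfect_PSL3⟩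

theorem noPCov_odd {r : ℕ} (hr : r.Prime) (h2 : r ≠ 2) : H67.NoPCov r SL3 := by
  have := charP_two
  exact CrossA.noPCov_SL_cross 2 2 hr h2

theorem card_center : Nat.card (center SL3) = 3 := by
  have hc := EvenA.card_center_SL (K := F4) (n := 3) (by norm_num)
  rw [hc, F4.card_eq]
  rfl

theorem card_SL3 : Nat.card SL3 = 3 * 20160 := by
  have h := card_mul_index (center SL3)
  rw [card_center] at h
  have h2 : (center SL3).index = 20160 := Cfsg.Agent.ONType.PslCard.card_PSL3
  rw [h2] at h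
  exact h.symm

/-- **Kernels of odd exponent have at most three elements.** -/
theorem card_ker_le {L : Type} [Group L] [Finite L] {π : L →* PSL3} (h : PCE π) {m : ℕ} (hm : ¬ 2 ∣ m)
    (hk : ∀ k : L, π k = 1 → k ^ m = 1) : Nat.card π.ker ≤ 3 := by
  -- the fibre product and its commutator subgroup
  have hs := pr_surj h.surj prS_surj
  have hcen : (pr π prS).ker ≤ center (FP π prS) := by
    rintro ⟨⟨a, b⟩, hab⟩ hx
    have ha : π a = 1 := hx
    have hb : prS b = 1 := (mem_FP.1 hab).symm.trans ha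
    have hb' : b ∈ center SL3 := by rw [← prS_ker]; exact hb
    rw [mem_center_iff]
    rintro ⟨⟨c, d⟩, hcd⟩
    exact Subtype.ext (Prod.ext (h.comm ha c).symm (mem_center_iff.1 hb' d))
  obtain ⟨hD, hDs⟩ := H487.perfect_commutator isPerfect_PSL3 hs hcen
  let D := _root_.commutator (FP π prS)
  -- the two projections
  let f1 : D →* L := ((MonoidHom.fst L SL3).comp (FP π prS).subtype).comp D.subtype
  let f2 : D →* SL3 := ((MonoidHom.snd L SL3).comp (FP π prS).subtype).comp D.subtype
  have hf : ∀ {Y : Type} [Group Y] (g : FP π prS →* Y), Surjective g → commutator Y = ⊤ →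
      Surjective (g.comp D.subtype) := by
    intro Y _ g hg hY y
    have hy : y ∈ commutator Y := by rw [hY]; trivial
    rw [commutator_def, ← Subgroup.map_top_of_surjective g hg, ← Subgroup.map_commutator, ← commutator_def] at hy
    obtain ⟨x, hx, rfl⟩ := hy
    exact ⟨⟨x, hx⟩, rfl⟩
  have s1 : Surjective f1 := by
    refine hf ((MonoidHom.fst L SL3).comp (FP π prS).subtype) ?_ h.perf
    intro a
    obtain ⟨b, hb⟩ := prS_surj (π a)
    exact ⟨⟨(a, b), mem_FP.2 hb.symm⟩, rfl⟩
  have s2 : Surjective f2 := by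
    refine hf ((MonoidHom.snd L SL3).comp (FP π prS).subtype) ?_ perfect_SL3
    intro b
    obtain ⟨a, ha⟩ := h.surj (prS b)
    exact ⟨⟨(a, b), mem_FP.2 ha⟩, rfl⟩
  -- the kernel of `f2`
  have hk2 : ∀ x : D, f2 x = 1 → π (f1 x) = 1 := by
    intro x hx
    have h1 : π (f1 x) = prS (f2 x) := mem_FP.1 x.1.2
    rw [h1, hx, map_one]
  have hkc : f2.ker ≤ center D := by
    intro x hx
    have h1 := hk2 x hx
    rw [mem_center_iff]
    intro y
    apply Subtype.ext
    apply Subtype.ext
    refine Prod.ext (h.comm h1 (f1 y)).symm ?_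
    show f2 y * f2 x = f2 x * f2 y
    rw [MonoidHom.mem_ker.1 hx, mul_one, one_mul]
  have hpow : ∀ x : f2.ker, x ^ m = 1 := by
    intro x
    apply Subtype.ext
    apply Subtype.ext
    apply Subtype.ext
    refine Prod.ext (hk _ (hk2 x.1 x.2)) ?_
    show (f2 (x : D)) ^ m = 1
    rw [MonoidHom.mem_ker.1 x.2, one_pow]
  have hinj : Injective f2 := by
    rw [← MonoidHom.ker_eq_bot_iff, ← card_eq_one]
    by_contra hne
    obtain ⟨r, hr, hdvd⟩ := Nat.exists_prime_and_dvd hne
    have := Fact.mk hr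
    obtain ⟨x, hx⟩ := exists_prime_orderOf_dvd_card' (G := f2.ker) r hdvd
    have h1 : r ∣ m := hx ▸ orderOf_dvd_of_pow_eq_one (hpow x)
    have h2 : r ≠ 2 := by rintro rfl; exact hm h1
    exact (noPCov_odd hr h2).not_dvd_card_ker hr hD.commutator_eq_top s2 hkc hdvd
  have c1 : Nat.card L ≤ Nat.card D := Nat.card_le_card_of_surjective f1 s1
  have c2 : Nat.card D ≤ Nat.card SL3 := Nat.card_le_card_of_injective f2 hinj
  have c3 := card_of_surj π h.surj
  have c4 : Nat.card PSL3 = 20160 := Cfsg.Agent.ONType.PslCard.card_PSL3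
  rw [c4] at c3
  rw [card_SL3] at c2
  omega

end Cfsg.Agent.H60.LThreeFour
end

-- part: H60/LThreeFour/Main
section
/-!
# The Schur multiplier of `PSL(3,4)` (helper60)
-/

set_option autoImplicit false
set_option linter.constructorNameAsVariable false

namespace Cfsg.Agent.H60.LThreeFour

open Subgroup Function Matrix
open Cfsg.Agent.SporadicA.FieldFour
open Cfsg.Agent.ONType.Psl
open Cfsg.Agent.ONType.Comm (cm)
open Cfsg.Agent.OddHalf.D9.L34Mult (CE)
open Cfsg.Agent.H51.Mult

/-! ### the diagonal automorphism -/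

/-- the matrix `diag(ω, 1, 1)` -/
def dm : Matrix (Fin 3) (Fin 3) F4 := fun a b => if a = b then (if a = 0 then ω else 1) else 0
/-- its inverse -/
def dm' : Matrix (Fin 3) (Fin 3) F4 := fun a b => if a = b then (if a = 0 then ω2 else 1) else 0

theorem dm_mul : dm * dm' = 1 := by decide +kernel
theorem dm_mul' : dm' * dm = 1 := by decide +kernel

/-- conjugation by `diag(ω, 1, 1)` -/
def del0 : SL3 →* SL3 where
  toFun g := ⟨dm * g.1 * dm', by
    rw [Matrix.det_mul, Matrix.det_mul, g.2, mul_one, ← Matrix.det_mul, dm_mul, Matrix.det_one]⟩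
  map_one' := by
    apply Subtype.ext
    show dm * (1 : Matrix (Fin 3) (Fin 3) F4) * dm' = 1
    rw [mul_one, dm_mul]
  map_mul' a b := by
    apply Subtype.ext
    show dm * (a.1 * b.1) * dm' = dm * a.1 * dm' * (dm * b.1 * dm')
    calc dm * (a.1 * b.1) * dm' = dm * a.1 * (1 : Matrix (Fin 3) (Fin 3) F4) * b.1 * dm' := by
          simp only [mul_one, mul_assoc]
      _ = dm * a.1 * (dm' * dm) * b.1 * dm' := by rw [dm_mul']
      _ = _ := by simp only [mul_assoc]

theorem del0_T (i j : Fin 3) (hij : i ≠ j) (u : F4) (hi : i = 0) : del0 (T i j u) = T i j (ω * u) := by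
  apply Subtype.ext
  show dm * tm i j u * dm' = tm i j (ω * u)
  revert i j u; decide +kernel

theorem del0_center : center SL3 ≤ (center SL3).comap del0 := by
  intro g hg
  obtain ⟨r, hr, hr'⟩ := Matrix.SpecialLinearGroup.mem_center_iff.1 hg
  rw [mem_comap]
  apply scalar_mem _ r
  show dm * g.1 * dm' = _
  have h1 : dm * g.1 = g.1 * dm := by
    rw [← hr']
    exact (Matrix.scalar_commute r (fun r' => mul_comm _ _) _).symm.eq
  rw [h1, mul_assoc, dm_mul, mul_one, hr']

/-- the diagonal automorphism of `PSL(3,4)` -/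
def del : PSL3 →* PSL3 := QuotientGroup.map (center SL3) (center SL3) del0 del0_center

theorem del_t {j : Fin 3} (hj : 0 ≠ j) (u : F4) : del (t 0 j u) = t 0 j (ω * u) :=
  congrArg (QuotientGroup.mk : SL3 → PSL3) (del0_T 0 j hj u rfl)

/-! ### `f` and lifts -/

section f

variable {M : Type*} [Group M] {π : M →* PSL3}

theorem cm_lift (C : CE π) {u v : F4} {y y' : M} (hy : π y = t 0 1 u) (hy' : π y' = t 0 2 v) :
    cm y y' = C.f (u * v) := by
  rw [← C.F_eq]
  obtain ⟨c, hc, rfl⟩ := CE.eq_mul_of_map_eq ((C.map_x 0 1 (by decide) u).trans hy.symm)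
  obtain ⟨d, hd, rfl⟩ := CE.eq_mul_of_map_eq ((C.map_x 0 2 (by decide) v).trans hy'.symm)
  show cm _ _ = cm _ _
  set a := C.x 0 1 u
  set b := C.x 0 2 v
  calc cm (a * c) (b * d) = ((a * c)⁻¹ * (b * d)⁻¹ * (a * c)) * (b * d) := rfl
    _ = (a⁻¹ * (b * d)⁻¹ * a) * (b * d) := by rw [C.conj_central' hc]
    _ = a⁻¹ * ((b * d)⁻¹ * a * (b * d)) := by group
    _ = a⁻¹ * (b⁻¹ * a * b) := by rw [C.conj_central' hd]
    _ = cm a b := by unfold cm; group

/-- a homomorphism over an endomorphism scaling the root groups -/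
theorem f_over {U : Type*} [Group U] {σ : U →* PSL3} (D : CE σ) (C : CE π) {α : PSL3 →* PSL3} {k : F4}
    (h1 : ∀ u, α (t 0 1 u) = t 0 1 (k * u)) (h2 : ∀ u, α (t 0 2 u) = t 0 2 (k * u)) {φ : U →* M}
    (hφ : ∀ x, π (φ x) = α (σ x)) (s : F4) : φ (D.f s) = C.f (k * k * s) := by
  show φ (cm (D.x 0 1 1) (D.x 0 2 s)) = _
  have e : φ (cm (D.x 0 1 1) (D.x 0 2 s)) = cm (φ (D.x 0 1 1)) (φ (D.x 0 2 s)) := by
    unfold cm; simp only [map_mul, map_inv]
  rw [e, cm_lift C (u := k * 1) (v := k * s), mul_one, mul_assoc]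
  · rw [hφ, D.map_x 0 1 (by decide), h1]
  · rw [hφ, D.map_x 0 2 (by decide), h2]

end f

theorem f_omega_ne : ce.f ω ≠ 1 := by
  intro h
  have h1 := cm_lift ce piM_zero piM_two
  rw [one_mul, h] at h1
  apply noncomm
  have h2 : (G 2 * G 0) * cm (G 0) (G 2) = G 0 * G 2 := by unfold cm; group
  rw [h1, mul_one] at h2
  exact h2.symm

/-! ### the universal extension -/

/-- the universal perfect central extension -/
abbrev U : Type := H487.UU PSL3

/-- its projection -/
abbrev prU : U →* PSL3 := H487.prU PSL3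

theorem pceU : PCE prU :=
  ⟨H487.prU_surjective isPerfect_PSL3, H487.prU_ker_central PSL3, (H487.isPerfect_UU isPerfect_PSL3).commutator_eq_top⟩

theorem ceU : CE prU := ⟨pceU.surj, fun _ hk m => pceU.comm hk m⟩

theorem f_inj {s : F4} (h : ceU.f s = 1) : s = 0 := by
  obtain ⟨φ, hφ⟩ := H487.exists_prU_lift PSL3 (MonoidHom.id PSL3) ce.surj
    (fun k hk => mem_center_iff.2 fun m => (ce.cen k hk m).symm)
  obtain ⟨ψ, hψ⟩ := H487.exists_prU_lift PSL3 del ce.surj
    (fun k hk => mem_center_iff.2 fun m => (ce.cen k hk m).symm)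
  have e1 := f_over ceU ce (α := MonoidHom.id PSL3) (k := 1) (fun u => by rw [one_mul]; rfl)
    (fun u => by rw [one_mul]; rfl) (φ := φ) (fun x => DFunLike.congr_fun hφ x) s
  have e2 := f_over ceU ce (α := del) (k := ω) (fun u => del_t (by decide) u) (fun u => del_t (by decide) u)
    (φ := ψ) (fun x => DFunLike.congr_fun hψ x) s
  rw [h, map_one] at e1 e2
  by_contra hs
  have e3 := ce.f_add (1 * 1 * s) (ω * ω * s)
  rw [← e1, ← e2, mul_one (1 : MM)] at e3
  apply f_omega_ne
  have key : ∀ s : F4, s ≠ 0 → ω = 1 * 1 * s ∨ ω = ω * ω * s ∨ ω = 1 * 1 * s + ω * ω * s := by decide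
  have := key s hs
  rcases this with e | e | e
  · rw [e, ← e1]
  · rw [e, ← e2]
  · rw [e, e3]

/-! ### the order of the multiplier -/

theorem comm_ker {a b : U} (ha : prU a = 1) : a * b = b * a := pceU.comm ha b

theorem card_two {L : Type} [Group L] [Finite L] {ρ : L →* PSL3} (h : PCE ρ) (h2 : IsPGroup 2 ρ.ker) :
    Nat.card ρ.ker ≤ 16 := by
  have C : CE ρ := ⟨h.surj, fun _ hk m => h.comm hk m⟩
  let φ : Fin 4 × Fin 4 → ρ.ker := fun p => ⟨C.g 1 ^ (p.1 : ℕ) * C.g ω ^ (p.2 : ℕ), by
    rw [MonoidHom.mem_ker, map_mul, map_pow, map_pow, C.g_map, C.g_map, one_pow, one_pow, one_mul]⟩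
  have hφ : Surjective φ := by
    rintro ⟨k, hk⟩
    obtain ⟨a, b, hab⟩ := C.ker_form h.perf h2 k hk
    refine ⟨(⟨a % 4, Nat.mod_lt _ (by norm_num)⟩, ⟨b % 4, Nat.mod_lt _ (by norm_num)⟩), ?_⟩
    apply Subtype.ext
    show C.g 1 ^ (a % 4) * C.g ω ^ (b % 4) = k
    rw [hab, ← pow_eq_pow_mod a (C.g_four 1), ← pow_eq_pow_mod b (C.g_four ω)]
  have := Nat.card_le_card_of_surjective φ hφ
  rw [Nat.card_prod] at this
  simpa using this

theorem card_U : Nat.card prU.ker ≤ 48 := by
  set n := Nat.card prU.ker with hn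
  have hn0 : n ≠ 0 := Nat.card_pos.ne'
  set q := 2 ^ n.factorization 2 with hq
  set m := n / q with hm
  have hqm : q * m = n := Nat.ordProj_mul_ordCompl_eq_self n 2
  have hodd : ¬ 2 ∣ m := Nat.not_dvd_ordCompl Nat.prime_two hn0
  have hpow : ∀ k : U, prU k = 1 → k ^ (q * m) = 1 := by
    intro k hk
    have h1 := pow_card_eq_one' (x := (⟨k, hk⟩ : prU.ker))
    rw [← hn, ← hqm] at h1
    exact congrArg Subtype.val h1
  -- the subgroup of the `j`-th powers
  let E : ℕ → Subgroup U := fun j =>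
    { carrier := {x | ∃ k, prU k = 1 ∧ x = k ^ j}
      mul_mem' := by
        rintro _ _ ⟨a, ha, rfl⟩ ⟨b, hb, rfl⟩
        refine ⟨a * b, by rw [map_mul, ha, hb, one_mul], ?_⟩
        exact ((show Commute a b from comm_ker ha).mul_pow j).symm
      one_mem' := ⟨1, map_one _, (one_pow _).symm⟩
      inv_mem' := by
        rintro _ ⟨a, ha, rfl⟩
        exact ⟨a⁻¹, by rw [map_inv, ha, inv_one], by rw [inv_pow]⟩ }
  have hE : ∀ j, E j ≤ prU.ker := by
    rintro j _ ⟨a, ha, rfl⟩
    rw [MonoidHom.mem_ker, map_pow, ha, one_pow]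
  obtain ⟨L1, _, q1, ρ1, hq1, hk1, hρ1, h1⟩ := pceU.quot (hE q)
  obtain ⟨L2, _, q2, ρ2, hq2, hk2, hρ2, h2⟩ := pceU.quot (hE m)
  have f1 : Finite L1 := Finite.of_surjective q1 hq1
  have f2 : Finite L2 := Finite.of_surjective q2 hq2
  have c1 : Nat.card ρ1.ker ≤ 16 := by
    apply card_two h1
    rintro ⟨x, hx⟩
    obtain ⟨k, rfl⟩ := hq1 x
    refine ⟨n.factorization 2, ?_⟩
    apply Subtype.ext
    show (q1 k) ^ q = 1
    rw [← map_pow, ← MonoidHom.mem_ker, hk1]
    exact ⟨k, by rw [← hρ1]; exact hx, rfl⟩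
  have c2 : Nat.card ρ2.ker ≤ 3 := by
    apply card_ker_le h2 hodd
    intro x hx
    obtain ⟨k, rfl⟩ := hq2 x
    rw [← map_pow, ← MonoidHom.mem_ker, hk2]
    exact ⟨k, by rw [← hρ2]; exact hx, rfl⟩
  let F : prU.ker → ρ1.ker × ρ2.ker := fun k => (⟨q1 k, by rw [MonoidHom.mem_ker, hρ1]; exact k.2⟩,
    ⟨q2 k, by rw [MonoidHom.mem_ker, hρ2]; exact k.2⟩)
  have hF : Injective F := by
    intro a b hab
    have e1 : q1 a = q1 b := congrArg (fun p => (p.1 : L1)) hab
    have e2 : q2 a = q2 b := congrArg (fun p => (p.2 : L2)) hab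
    have g1 : (a : U)⁻¹ * b ∈ E q := by
      rw [← hk1, MonoidHom.mem_ker, map_mul, map_inv, e1, inv_mul_cancel]
    have g2 : (a : U)⁻¹ * b ∈ E m := by
      rw [← hk2, MonoidHom.mem_ker, map_mul, map_inv, e2, inv_mul_cancel]
    obtain ⟨k, hk, ek⟩ := g1
    obtain ⟨l, hl, el⟩ := g2
    have p1 : ((a : U)⁻¹ * b) ^ m = 1 := by rw [ek, ← pow_mul, hpow k hk]
    have p2 : ((a : U)⁻¹ * b) ^ q = 1 := by rw [el, ← pow_mul, mul_comm, hpow l hl]
    have hcop : Nat.Coprime m q := by
      rw [hq]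
      exact ((Nat.Prime.coprime_iff_not_dvd Nat.prime_two).2 hodd).symm.pow_right _
    have h3 := Nat.dvd_gcd (orderOf_dvd_of_pow_eq_one p1) (orderOf_dvd_of_pow_eq_one p2)
    rw [hcop.gcd_eq_one] at h3
    have h4 := orderOf_eq_one_iff.1 (Nat.dvd_one.1 h3)
    exact Subtype.ext (inv_mul_eq_one.1 h4)
  have := Nat.card_le_card_of_injective F hF
  rw [Nat.card_prod] at this
  calc n ≤ Nat.card ρ1.ker * Nat.card ρ2.ker := this
    _ ≤ 16 * 3 := Nat.mul_le_mul c1 c2
    _ = 48 := rfl

end Cfsg.Agent.H60.LThreeFour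
end
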